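import Mathlib.RingTheory.Flat.Basic
import Mathlib.Algebra.Module.Torsion.Basic
import Mathlib.RingTheory.Localization.Away.Basic
import Mathlib.RingTheory.Localization.BaseChange
import Mathlib.LinearAlgebra.TensorProduct.RightExactness
import Mathlib.LinearAlgebra.TensorProduct.Pi
import Mathlib.RingTheory.Finiteness.Ideal

/-!
# Torsion elements of a flat base change

`eq_zero_of_torsion`: if flat algebras `D k` over a flat algebra `F` split, locally on `V(IF)`, the
reduction of `F` modulo `I`, then an `I`-power torsion element of `F ⊗ N` vanishing in every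
`D k ⊗ N` vanishes.
-/

set_option autoImplicit false

universe u

open TensorProduct

namespace Groth.Agent.Lib.AlgSpModif.Torsion

variable {A F : Type u} [CommRing A] [CommRing F] [Algebra A F] (I : Ideal A)
variable {κ : Type u} {D : κ → Type u} [∀ k, CommRing (D k)] [∀ k, Algebra A (D k)]
  (ρ : ∀ k, F →ₐ[A] D k)

/-- The reduction of `F` modulo `I`. -/
abbrev Fbar (F : Type u) [CommRing F] [Algebra A F] : Type u := F ⧸ I.map (algebraMap A F)

/-- Local splittings of the `D k` over the reduction of `F`. -/
def Splits : Prop :=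
  ∀ q : Ideal F, q.IsPrime → I.map (algebraMap A F) ≤ q → ∃ (k : κ) (g : F), g ∉ q ∧
    ∃ s : D k →ₐ[A] Localization.Away (Ideal.Quotient.mk (I.map (algebraMap A F)) g),
      ∀ a : F, s (ρ k a) =
        algebraMap (Fbar I F) (Localization.Away (Ideal.Quotient.mk (I.map (algebraMap A F)) g))
          (Ideal.Quotient.mk _ a)

variable {I ρ}

theorem eq_zero_of_le (hs : Splits I ρ) {M : Type u} [AddCommGroup M] [Module A M]
    (hM : ∀ a ∈ I, ∀ m : M, a • m = 0) (x : F ⊗[A] M)
    (h0 : ∀ k, (ρ k).toLinearMap.rTensor M x = 0) : x = 0 := by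
  classical
  let N := F ⊗[A] M
  let J : Ideal F := I.map (algebraMap A F)
  have hN : Module.IsTorsionBySet F N (J : Set F) := by
    intro y ⟨c, hc⟩
    show c • y = 0
    induction hc using Submodule.span_induction with
    | mem c hc =>
      obtain ⟨a, ha, rfl⟩ := hc
      rw [algebraMap_smul]
      induction y using TensorProduct.induction_on with
      | zero => simp
      | tmul c m => rw [smul_tmul', smul_tmul, hM a ha, tmul_zero]
      | add u v hu hv => rw [smul_add, hu, hv, add_zero]
    | zero => simp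
    | add u v _ _ hu hv => rw [add_smul, hu, hv, add_zero]
    | smul r u _ hu => rw [smul_eq_mul, mul_smul, hu, smul_zero]
  letI : Module (Fbar I F) N := hN.module
  haveI : IsScalarTower F (Fbar I F) N := hN.isScalarTower
  haveI : IsScalarTower A (Fbar I F) N := IsScalarTower.of_algebraMap_smul fun a y => by
    rw [IsScalarTower.algebraMap_apply A F (Fbar I F), algebraMap_smul, algebraMap_smul]
  let ann : Ideal F := LinearMap.ker ((LinearMap.toSpanSingleton F N x))
  suffices ann = ⊤ by
    have h1 : (1 : F) ∈ ann := this ▸ Submodule.mem_top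
    simpa [ann] using h1
  by_contra hne
  obtain ⟨q, hq, hle⟩ := Ideal.exists_le_maximal ann hne
  have hJq : J ≤ q := le_trans (fun c hc => by
    show c • x = 0
    exact @hN x ⟨c, hc⟩) hle
  obtain ⟨k, g, hg, s, hsρ⟩ := hs q hq.isPrime hJq
  let gb : Fbar I F := Ideal.Quotient.mk J g
  let L := Localization.Away gb
  -- compare with the localisation of `N`
  let Φ : L ⊗[A] M →ₗ[A] L ⊗[Fbar I F] N :=
    TensorProduct.lift (LinearMap.mk₂ A (fun c m => c ⊗ₜ[Fbar I F] ((1 : F) ⊗ₜ[A] m))
      (fun c c' m => add_tmul _ _ _)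
      (fun a c m => by rw [smul_tmul'])
      (fun c m m' => by rw [tmul_add, tmul_add])
      (fun a c m => by rw [tmul_smul, tmul_smul]))
  have key : ∀ y : F ⊗[A] M,
      Φ (s.toLinearMap.rTensor M ((ρ k).toLinearMap.rTensor M y)) = (1 : L) ⊗ₜ[Fbar I F] y := by
    intro y
    induction y using TensorProduct.induction_on with
    | zero => simp
    | tmul a m =>
      rw [LinearMap.rTensor_tmul, LinearMap.rTensor_tmul]
      show (s (ρ k a)) ⊗ₜ[Fbar I F] ((1 : F) ⊗ₜ[A] m) = _
      rw [hsρ, Algebra.algebraMap_eq_smul_one, smul_tmul]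
      congr 1
      show (Ideal.Quotient.mk J a) • ((1 : F) ⊗ₜ[A] m) = _
      rw [← Ideal.Quotient.algebraMap_eq, algebraMap_smul, smul_tmul', smul_eq_mul, mul_one]
    | add u v hu hv => rw [map_add, map_add, map_add, hu, hv, tmul_add]
  have h1 : TensorProduct.mk (Fbar I F) L N 1 x = 0 := by
    rw [TensorProduct.mk_apply, ← key, h0, map_zero, map_zero]
  obtain ⟨⟨_, n, rfl⟩, hn⟩ :=
    (IsLocalizedModule.eq_zero_iff (Submonoid.powers gb) (TensorProduct.mk (Fbar I F) L N 1)).1 h1
  have hn' : g ^ n • x = 0 := by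
    rw [← algebraMap_smul (Fbar I F) (g ^ n) x, map_pow]
    exact hn
  exact hg (hq.isPrime.mem_of_pow_mem n (hle hn'))

theorem eq_zero_of_le_pow [∀ k, Module.Flat A (D k)] (hs : Splits I ρ) :
    ∀ (n : ℕ) {M : Type u} [AddCommGroup M] [Module A M] (_ : ∀ a ∈ I ^ n, ∀ m : M, a • m = 0)
      (x : F ⊗[A] M) (_ : ∀ k, (ρ k).toLinearMap.rTensor M x = 0), x = 0 := by
  intro n
  induction n with
  | zero =>
    intro M _ _ hM x _
    have h1 : (1 : A) ∈ I ^ 0 := by simp
    haveI : Subsingleton M :=
      ⟨fun m m' => by rw [← one_smul A m, ← one_smul A m', hM 1 h1, hM 1 h1]⟩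
    induction x using TensorProduct.induction_on with
    | zero => rfl
    | tmul c m => rw [Subsingleton.elim m 0, tmul_zero]
    | add u v hu hv =>
      have hz : ∀ y : F ⊗[A] M, y = 0 := fun y => by
        induction y using TensorProduct.induction_on with
        | zero => rfl
        | tmul c m => rw [Subsingleton.elim m 0, tmul_zero]
        | add u v hu hv => rw [hu, hv, add_zero]
      exact hz _
  | succ n ih =>
    intro M _ _ hM x h0
    let M' : Submodule A M := I ^ n • ⊤
    have hM' : ∀ a ∈ I, ∀ m : M', a • m = 0 := by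
      rintro a ha ⟨m, hm⟩
      ext
      show a • m = 0
      refine Submodule.smul_induction_on (p := fun y => a • y = 0) hm ?_ ?_
      · intro b hb y _
        rw [smul_smul]
        exact hM _ (by rw [pow_succ']; exact Ideal.mul_mem_mul ha hb) y
      · intro u v hu hv
        rw [smul_add, hu, hv, add_zero]
    have hM'' : ∀ a ∈ I ^ n, ∀ m : M ⧸ M', a • m = 0 := by
      intro a ha m
      obtain ⟨m, rfl⟩ := Submodule.Quotient.mk_surjective M' m
      rw [← Submodule.Quotient.mk_smul, Submodule.Quotient.mk_eq_zero]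
      exact Submodule.smul_mem_smul ha trivial
    have h2 : M'.mkQ.lTensor F x = 0 := by
      refine ih hM'' _ fun k => ?_
      rw [← LinearMap.comp_apply, LinearMap.rTensor_comp_lTensor, ← LinearMap.lTensor_comp_rTensor,
        LinearMap.comp_apply, h0, map_zero]
    obtain ⟨t, rfl⟩ := (lTensor_exact F (LinearMap.exact_subtype_mkQ M') M'.mkQ_surjective x).1 h2
    suffices t = 0 by rw [this, map_zero]
    refine eq_zero_of_le hs hM' t fun k => ?_
    refine Module.Flat.lTensor_preserves_injective_linearMap (M := D k) M'.subtype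
      M'.injective_subtype ?_
    rw [map_zero, ← LinearMap.comp_apply, LinearMap.lTensor_comp_rTensor,
      ← LinearMap.rTensor_comp_lTensor, LinearMap.comp_apply]
    exact h0 k

theorem eq_zero_of_torsion [Module.Flat A F] [∀ k, Module.Flat A (D k)] (hI : I.FG)
    (hs : Splits I ρ) {N : Type u} [AddCommGroup N] [Module A N] (n : ℕ) (z : F ⊗[A] N)
    (hz : ∀ a ∈ I ^ n, a • z = 0) (h0 : ∀ k, (ρ k).toLinearMap.rTensor N z = 0) : z = 0 := by
  classical
  obtain ⟨s, hsp⟩ := hI.pow (n := n)
  let φ : N →ₗ[A] (↥s → N) := LinearMap.pi fun a => LinearMap.lsmul A N a.1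
  let T := LinearMap.ker φ
  have hT : ∀ a ∈ I ^ n, ∀ m : T, a • m = 0 := by
    rintro a ha ⟨m, hm⟩
    ext
    show a • m = 0
    rw [← hsp] at ha
    induction ha using Submodule.span_induction with
    | mem b hb => exact congrFun (LinearMap.mem_ker.1 hm) ⟨b, hb⟩
    | zero => simp
    | add u v _ _ hu hv => rw [add_smul, hu, hv, add_zero]
    | smul r u _ hu => rw [smul_eq_mul, mul_smul, hu, smul_zero]
  have hφz : φ.lTensor F z = 0 := by
    apply (TensorProduct.piRight A A F (fun _ : ↥s => N)).injective
    rw [map_zero]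
    ext a
    have key : ∀ y : F ⊗[A] N,
        TensorProduct.piRight A A F (fun _ : ↥s => N) (φ.lTensor F y) a = a.1 • y := by
      intro y
      induction y using TensorProduct.induction_on with
      | zero => simp
      | tmul c m => simp [φ, tmul_smul]
      | add u v hu hv => rw [map_add, map_add, Pi.add_apply, hu, hv, smul_add]
    rw [key]
    exact hz a.1 (hsp ▸ Submodule.subset_span a.2)
  obtain ⟨t, rfl⟩ := (Module.Flat.lTensor_exact F (LinearMap.exact_subtype_ker_map φ) z).1 hφz
  suffices t = 0 by rw [this, map_zero]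
  refine eq_zero_of_le_pow hs n hT t fun k => ?_
  refine Module.Flat.lTensor_preserves_injective_linearMap (M := D k) T.subtype
    T.injective_subtype ?_
  rw [map_zero, ← LinearMap.comp_apply, LinearMap.lTensor_comp_rTensor,
    ← LinearMap.rTensor_comp_lTensor, LinearMap.comp_apply]
  exact h0 k

end Groth.Agent.Lib.AlgSpModif.Torsion
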