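import Groth.Prelude.Def_AlgSp3
import Groth.Agent.Lib.AlgSpace.Points
import Groth.Agent.Lib.AlgSpModif.Torsion

/-!
# Spectra of algebras over an affine scheme over the base
-/

set_option autoImplicit false

universe u

open CategoryTheory CategoryTheory.Limits AlgebraicGeometry

namespace Groth.Agent.Lib.AlgSpModif

variable {S : Scheme.{u}} {A : Type u} [CommRing A] (sA : Spec (CommRingCat.of A) ⟶ S)

/-- `Spec R` for an `A`-algebra `R`, over the base. -/
noncomputable abbrev SpA (R : Type u) [CommRing R] [Algebra A R] : Over S :=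
  Over.mk (Spec.map (CommRingCat.ofHom (algebraMap A R)) ≫ sA)

/-- The structure map to `Spec A`. -/
noncomputable abbrev strA (R : Type u) [CommRing R] [Algebra A R] : SpA sA R ⟶ Over.mk sA :=
  Over.homMk (Spec.map (CommRingCat.ofHom (algebraMap A R))) rfl

variable {R R₂ R₃ : Type u} [CommRing R] [Algebra A R] [CommRing R₂] [Algebra A R₂] [CommRing R₃]
  [Algebra A R₃]

/-- `Spec` of an algebra map. -/
noncomputable abbrev spA (φ : R →ₐ[A] R₂) : SpA sA R₂ ⟶ SpA sA R :=
  Over.homMk (Spec.map (CommRingCat.ofHom φ.toRingHom)) (by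
    show _ ≫ Spec.map _ ≫ sA = _
    rw [← Category.assoc, ← Spec.map_comp, ← CommRingCat.ofHom_comp]
    exact congrArg (fun r => Spec.map (CommRingCat.ofHom r) ≫ sA) φ.comp_algebraMap)

theorem spA_strA (φ : R →ₐ[A] R₂) : spA sA φ ≫ strA sA R = strA sA R₂ :=
  Over.OverMorphism.ext (by
    show Spec.map (CommRingCat.ofHom φ.toRingHom) ≫ Spec.map _ = Spec.map _
    rw [← Spec.map_comp, ← CommRingCat.ofHom_comp]
    exact congrArg (fun r => Spec.map (CommRingCat.ofHom r)) φ.comp_algebraMap)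

theorem spA_comp (φ : R →ₐ[A] R₂) (ψ : R₂ →ₐ[A] R₃) :
    spA sA (ψ.comp φ) = spA sA ψ ≫ spA sA φ :=
  Over.OverMorphism.ext
    (Spec.map_comp (CommRingCat.ofHom φ.toRingHom) (CommRingCat.ofHom ψ.toRingHom))

theorem yon_spA_comp {G : AlgSp.Sp S} (φ : R →ₐ[A] R₂) (ψ : R₂ →ₐ[A] R₃)
    (x : (AlgSp.yon S).obj (SpA sA R) ⟶ G) :
    (AlgSp.yon S).map (spA sA ψ) ≫ (AlgSp.yon S).map (spA sA φ) ≫ x =
      (AlgSp.yon S).map (spA sA (ψ.comp φ)) ≫ x := by
  rw [spA_comp, Functor.map_comp, Category.assoc]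

theorem exists_spA (k : SpA sA R₂ ⟶ SpA sA R) (h : k ≫ strA sA R = strA sA R₂) :
    ∃ φ : R →ₐ[A] R₂, spA sA φ = k := by
  obtain ⟨φ, hφ⟩ := Spec.map_surjective (R := CommRingCat.of R) (S := CommRingCat.of R₂) k.left
  have e : φ.hom.comp (algebraMap A R) = algebraMap A R₂ := by
    have : CommRingCat.ofHom (algebraMap A R) ≫ φ = CommRingCat.ofHom (algebraMap A R₂) := by
      apply Spec.map_injective
      rw [Spec.map_comp, hφ]
      exact congrArg CommaMorphism.left h
    exact congrArg CommRingCat.Hom.hom this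
  exact ⟨AlgHom.mk φ.hom (RingHom.congr_fun e), Over.OverMorphism.ext hφ⟩

/-- An affine scheme over the base is a spectrum. -/
theorem exists_spec_iso (T : Over S) [IsAffine T.left] :
    ∃ (A : Type u) (_ : CommRing A) (sA : Spec (CommRingCat.of A) ⟶ S),
      Nonempty (Over.mk sA ≅ T) :=
  ⟨Γ(T.left, ⊤), inferInstance, T.left.isoSpec.inv ≫ T.hom,
    ⟨Over.isoMk T.left.isoSpec.symm rfl⟩⟩

/-- An affine open of a scheme over `Spec A` is the spectrum of an algebra. -/
theorem exists_spA_open {T : Over S} (t : T ⟶ Over.mk sA) {W : T.left.Opens} (hW : IsAffineOpen W) :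
    ∃ (R : Type u) (_ : CommRing R) (_ : Algebra A R) (j : SpA sA R ⟶ T),
      IsOpenImmersion j.left ∧ Set.range j.left = (W : Set ↥T.left) ∧ j ≫ t = strA sA R := by
  let φ : CommRingCat.of A ⟶ Γ(T.left, W) := Spec.preimage (hW.fromSpec ≫ t.left)
  letI : Algebra A Γ(T.left, W) := φ.hom.toAlgebra
  have hφ : Spec.map (CommRingCat.ofHom (algebraMap A Γ(T.left, W))) = hW.fromSpec ≫ t.left :=
    Spec.map_preimage _
  have hw : hW.fromSpec ≫ T.hom =
      Spec.map (CommRingCat.ofHom (algebraMap A Γ(T.left, W))) ≫ sA := by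
    rw [hφ, Category.assoc]
    exact congrArg (hW.fromSpec ≫ ·) (Over.w t).symm
  exact ⟨Γ(T.left, W), inferInstance, inferInstance, Over.homMk hW.fromSpec hw,
    (inferInstance : IsOpenImmersion hW.fromSpec), hW.range_fromSpec,
    Over.OverMorphism.ext hφ.symm⟩

/-- Lift along an open immersion. -/
theorem exists_lift_over {T T' V : Over S} (j : V ⟶ T) [IsOpenImmersion j.left] (k : T' ⟶ T)
    (h : Set.range k.left ⊆ Set.range j.left) : ∃ k' : T' ⟶ V, k' ≫ j = k := by
  refine ⟨Over.homMk (IsOpenImmersion.lift j.left k.left h) ?_,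
    Over.OverMorphism.ext (IsOpenImmersion.lift_fac _ _ _)⟩
  rw [← Over.w j, IsOpenImmersion.lift_fac_assoc, Over.w]

end Groth.Agent.Lib.AlgSpModif
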