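import Groth.Prelude.Def_AlgSpMor5
import Groth.Agent.Lib.AlgSpModif.SpecAlg
import Mathlib.AlgebraicGeometry.Morphisms.FinitePresentation

/-!
# Morphisms given on flat pieces of a modification agree on overlaps
-/

set_option autoImplicit false
set_option linter.style.haveILetI false

universe u

open CategoryTheory CategoryTheory.Limits AlgebraicGeometry TensorProduct

namespace Groth.Agent.Lib.AlgSpModif

open AlgSp (Sp yon Representable RepWith IsAlgSpace Points)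
open Groth.Agent.Lib.AlgSpace

variable {S : Scheme.{u}} {X Y Z U X₁ X₂ : Sp S} (p₁ : X₁ ⟶ X) (p₂ : X₂ ⟶ X) (f : Y ⟶ X)

/-- A morphism `X₁ ×_X Y → X₂` over `X` independent of `Y` over `U`, on sections. -/
structure SecMap (j : U ⟶ X) where
  /-- the value on a section -/
  val : ∀ (T : Over S) (x : (yon S).obj T ⟶ X₁) (y : (yon S).obj T ⟶ Y),
    x ≫ p₁ = y ≫ f → ((yon S).obj T ⟶ X₂)
  nat : ∀ {T T' : Over S} (k : T' ⟶ T) (x : (yon S).obj T ⟶ X₁) (y : (yon S).obj T ⟶ Y)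
    (h : x ≫ p₁ = y ≫ f),
    (yon S).map k ≫ val T x y h =
      val T' ((yon S).map k ≫ x) ((yon S).map k ≫ y) (by simp only [Category.assoc, h])
  overBase : ∀ (T : Over S) (x : (yon S).obj T ⟶ X₁) (y : (yon S).obj T ⟶ Y) (h : x ≫ p₁ = y ≫ f),
    val T x y h ≫ p₂ = x ≫ p₁
  indep : ∀ (T : Over S) (x : (yon S).obj T ⟶ X₁) (y y' : (yon S).obj T ⟶ Y)
    (h : x ≫ p₁ = y ≫ f) (h' : x ≫ p₁ = y' ≫ f),
    (∃ u : (yon S).obj T ⟶ U, u ≫ j = x ≫ p₁) → val T x y h = val T x y' h'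

variable {p₁ p₂ f} {j : U ⟶ X} (β : SecMap p₁ p₂ f j)

theorem SecMap.congr {T : Over S} {x : (yon S).obj T ⟶ X₁} {y y' : (yon S).obj T ⟶ Y} (e : y = y')
    (h : x ≫ p₁ = y ≫ f) (h' : x ≫ p₁ = y' ≫ f) : β.val T x y h = β.val T x y' h' := by
  subst e; rfl

theorem SecMap.congr₂ {T : Over S} {x x' : (yon S).obj T ⟶ X₁} {y y' : (yon S).obj T ⟶ Y}
    (e : y = y') (ex : x = x')
    (h : x ≫ p₁ = y ≫ f) (h' : x' ≫ p₁ = y' ≫ f) : β.val T x y h = β.val T x' y' h' := by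
  subst e ex; rfl

/-- The affine core. -/
theorem agree_core (hp₂ : AlgSp.IsSeparatedMor p₂) {A : Type u} [CommRing A]
    (sA : Spec (CommRingCat.of A) ⟶ S) (ξ : (yon S).obj (Over.mk sA) ⟶ X) (I : Ideal A) (hI : I.FG)
    (hUo : ∀ (R : Type u) [CommRing R] [Algebra A R], ∀ g ∈ I, IsUnit (algebraMap A R g) →
      ∃ u : (yon S).obj (SpA sA R) ⟶ U, u ≫ j = (yon S).map (strA sA R) ≫ ξ)
    {F : Type u} [CommRing F] [Algebra A F] [Module.Flat A F]
    (y₁ y₂ : (yon S).obj (SpA sA F) ⟶ Y)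
    {κ : Type u} {D : κ → Type u} [∀ k, CommRing (D k)] [∀ k, Algebra A (D k)]
    [∀ k, Module.Flat A (D k)] (ρ : ∀ k, F →ₐ[A] D k) (hs : Torsion.Splits I ρ)
    (hD : ∀ k, (yon S).map (spA sA (ρ k)) ≫ y₁ = (yon S).map (spA sA (ρ k)) ≫ y₂)
    (R : Type u) [CommRing R] [Algebra A R] (x : (yon S).obj (SpA sA R) ⟶ X₁)
    (hx : x ≫ p₁ = (yon S).map (strA sA R) ≫ ξ)
    (x' : (yon S).obj (SpA sA (F ⊗[A] R)) ⟶ X₁)
    (hx' : x' = (yon S).map (spA sA (Algebra.TensorProduct.includeRight : R →ₐ[A] F ⊗[A] R)) ≫ x)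
    (i₁ : F →ₐ[A] F ⊗[A] R) (hi₁ : i₁ = Algebra.TensorProduct.includeLeft)
    (e₁ : x' ≫ p₁ = ((yon S).map (spA sA i₁) ≫ y₁) ≫ f)
    (e₂ : x' ≫ p₁ = ((yon S).map (spA sA i₁) ≫ y₂) ≫ f) :
    β.val _ x' ((yon S).map (spA sA i₁) ≫ y₁) e₁ = β.val _ x' ((yon S).map (spA sA i₁) ≫ y₂) e₂ := by
  let b₁ := β.val _ x' ((yon S).map (spA sA i₁) ≫ y₁) e₁
  let b₂ := β.val _ x' ((yon S).map (spA sA i₁) ≫ y₂) e₂
  obtain ⟨E, e, δ, sq, he⟩ := repWith_exists hp₂
    (pullback.lift b₁ b₂ ((β.overBase _ _ _ e₁).trans (β.overBase _ _ _ e₂).symm))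
  haveI : IsClosedImmersion e.left := he
  obtain ⟨J, eE, heE⟩ := (IsClosedImmersion.Spec_iff (f := e.left)).1 he
  -- elements of `J` die where the two values agree
  have kill : ∀ {R'' : Type u} [CommRing R''] [Algebra A R''] (φ : F ⊗[A] R →ₐ[A] R''),
      (yon S).map (spA sA φ) ≫ b₁ = (yon S).map (spA sA φ) ≫ b₂ → ∀ z ∈ J, φ z = 0 := by
    intro R'' _ _ φ hφ z hz
    obtain ⟨k, hk⟩ := (yon S).map_surjective (sq.lift ((yon S).map (spA sA φ) ≫ b₁)
      ((yon S).map (spA sA φ)) (by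
        apply pullback.hom_ext
        · simp only [Category.assoc, pullback.diagonal_fst, Category.comp_id, pullback.lift_fst]
        · simp only [Category.assoc, pullback.diagonal_snd, Category.comp_id, pullback.lift_snd]
          exact hφ))
    have hke : k ≫ e = spA sA φ := (yon S).map_injective (by rw [Functor.map_comp, hk, sq.lift_snd])
    obtain ⟨ψ, hψ⟩ := Spec.map_surjective (k.left ≫ eE.hom)
    have : CommRingCat.ofHom φ.toRingHom = CommRingCat.ofHom (Ideal.Quotient.mk J) ≫ ψ := by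
      apply Spec.map_injective
      rw [Spec.map_comp, hψ, Category.assoc, ← heE]
      exact (congrArg CommaMorphism.left hke).symm
    calc φ z = ψ.hom (Ideal.Quotient.mk J z) :=
          RingHom.congr_fun (congrArg CommRingCat.Hom.hom this) z
      _ = 0 := by rw [Ideal.Quotient.eq_zero_iff_mem.2 hz, map_zero]
  have hJ : ∀ z ∈ J, z = 0 := by
    intro z hz
    let ann : Ideal A := LinearMap.ker (LinearMap.toSpanSingleton A (F ⊗[A] R) z)
    have hrad : I ≤ ann.radical := by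
      intro g hg
      let gG := algebraMap A (F ⊗[A] R) g
      let φ : F ⊗[A] R →ₐ[A] Localization.Away gG := IsScalarTower.toAlgHom A _ _
      have hu : IsUnit (algebraMap A (Localization.Away gG) g) := by
        rw [IsScalarTower.algebraMap_apply A (F ⊗[A] R) (Localization.Away gG)]
        exact IsLocalization.Away.algebraMap_isUnit gG
      obtain ⟨u, hu'⟩ := hUo (Localization.Away gG) g hg hu
      have h0 : φ z = 0 := by
        refine kill φ ?_ z hz
        rw [β.nat, β.nat]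
        refine β.indep _ _ _ _ _ _ ⟨u, ?_⟩
        rw [hu', hx', yon_spA_comp, Category.assoc, hx, ← Category.assoc, ← Functor.map_comp,
          spA_strA]
      obtain ⟨⟨_, n, rfl⟩, hn⟩ :=
        (IsLocalization.map_eq_zero_iff (Submonoid.powers gG) (Localization.Away gG) z).1 h0
      refine ⟨n, ?_⟩
      show g ^ n • z = 0
      rw [Algebra.smul_def, map_pow]
      exact hn
    obtain ⟨n, hn⟩ := Ideal.exists_pow_le_of_le_radical_of_fg hrad hI
    refine Torsion.eq_zero_of_torsion hI hs n z (fun a ha => hn ha) fun k => ?_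
    let φ : F ⊗[A] R →ₐ[A] D k ⊗[A] R := Algebra.TensorProduct.map (ρ k) (AlgHom.id A R)
    have hlin : ∀ y : F ⊗[A] R, (ρ k).toLinearMap.rTensor R y = φ y := by
      intro y
      induction y using TensorProduct.induction_on with
      | zero => simp
      | tmul c r => simp [φ]
      | add a b ha hb => rw [map_add, map_add, ha, hb]
    rw [hlin]
    refine kill φ ?_ z hz
    rw [β.nat, β.nat]
    refine β.congr ?_ _ _
    have hφi : φ.comp i₁ = (Algebra.TensorProduct.includeLeft : D k →ₐ[A] D k ⊗[A] R).comp (ρ k) := by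
      subst hi₁
      ext c
      simp [φ]
    simp only [yon_spA_comp, hφi]
    rw [spA_comp, Functor.map_comp, Category.assoc, Category.assoc, hD]
  let ψ : CommRingCat.of ((F ⊗[A] R) ⧸ J) ⟶ CommRingCat.of (F ⊗[A] R) :=
    CommRingCat.ofHom (Ideal.Quotient.lift J (RingHom.id (F ⊗[A] R)) hJ)
  have hψ : (Spec.map ψ ≫ eE.inv) ≫ e.left = 𝟙 _ := by
    rw [heE, Category.assoc, Iso.inv_hom_id_assoc, ← Spec.map_comp, ← Spec.map_id]
    congr 1
  let σ : SpA sA (F ⊗[A] R) ⟶ E := Over.homMk (Spec.map ψ ≫ eE.inv) (by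
    rw [← Over.w e, ← Category.assoc, hψ]
    exact Category.id_comp _)
  have hσ : σ ≫ e = 𝟙 _ := Over.OverMorphism.ext hψ
  have w₁ := congrArg (fun m => (yon S).map σ ≫ m ≫ pullback.fst _ _) sq.w
  have w₂ := congrArg (fun m => (yon S).map σ ≫ m ≫ pullback.snd _ _) sq.w
  simp only [Category.assoc, pullback.diagonal_fst, pullback.diagonal_snd, Category.comp_id,
    pullback.lift_fst, pullback.lift_snd] at w₁ w₂
  rw [← Category.assoc ((yon S).map σ) ((yon S).map e), ← Functor.map_comp, hσ,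
    CategoryTheory.Functor.map_id, Category.id_comp] at w₁ w₂
  exact w₁.symm.trans w₂

/-- The values on two flat pieces agree. -/
theorem agree_pieces (hp₂ : AlgSp.IsSeparatedMor p₂) (hX : IsAlgSpace X) (hY : IsAlgSpace Y)
    {FZ : Sp S} {i : Z ⟶ X} (hi : RepWith @IsClosedImmersion i)
    (hir : RepWith @LocallyOfFinitePresentation i) {iY : FZ ⟶ Y} {fZ : FZ ⟶ Z}
    (hFZ : IsPullback iY fZ f i) [IsIso fZ] (hj : RepWith @IsOpenImmersion j)
    (hU : Set.range (Points.map j) = (Set.range (Points.map i))ᶜ)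
    {A : Type u} [CommRing A] (sA : Spec (CommRingCat.of A) ⟶ S)
    (ξ : (yon S).obj (Over.mk sA) ⟶ X)
    {W₁ W₂ : Over S} (d₁ : W₁ ⟶ Over.mk sA) (hd₁ : Flat d₁.left)
    (l₁ : (yon S).obj W₁ ⟶ Y) (hl₁ : l₁ ≫ f = (yon S).map d₁ ≫ ξ)
    (l₂ : (yon S).obj W₂ ⟶ Y) (hl₂ : RepWith @Flat l₂) (hc₂ : RepWith @Flat (l₂ ≫ f))
    {T : Over S} (w₁ : T ⟶ W₁) (w₂ : T ⟶ W₂) (x : (yon S).obj T ⟶ X₁)
    (h₁ : x ≫ p₁ = ((yon S).map w₁ ≫ l₁) ≫ f) (h₂ : x ≫ p₁ = ((yon S).map w₂ ≫ l₂) ≫ f) :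
    β.val T x ((yon S).map w₁ ≫ l₁) h₁ = β.val T x ((yon S).map w₂ ≫ l₂) h₂ := by
  haveI := hd₁
  obtain ⟨P, π₁, π₂, sqP⟩ := exists_isPullback_yon hX.diag (l₁ ≫ f) (l₂ ≫ f)
  have hπ₁ : Flat π₁.left := repWith_property hc₂ sqP.flip
  obtain ⟨m, hm₁, hm₂⟩ : ∃ m : T ⟶ P, m ≫ π₁ = w₁ ∧ m ≫ π₂ = w₂ := by
    obtain ⟨m, hm⟩ := (yon S).map_surjective (sqP.lift ((yon S).map w₁) ((yon S).map w₂)
      (by rw [← Category.assoc, ← Category.assoc, ← h₁, ← h₂]))
    exact ⟨m, (yon S).map_injective (by rw [Functor.map_comp, hm, sqP.lift_fst]),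
      (yon S).map_injective (by rw [Functor.map_comp, hm, sqP.lift_snd])⟩
  -- the ideal of the closed part
  obtain ⟨D₀, d₀, δ₀, sq₀, hd₀⟩ := repWith_exists hi ξ
  obtain ⟨I, eI, heI⟩ := (IsClosedImmersion.Spec_iff (f := d₀.left)).1 hd₀
  have hI : I.FG := by
    haveI : LocallyOfFinitePresentation d₀.left := repWith_property hir sq₀
    have h : LocallyOfFinitePresentation (Spec.map (CommRingCat.ofHom (Ideal.Quotient.mk I))) := by
      rw [show Spec.map (CommRingCat.ofHom (Ideal.Quotient.mk I)) = eI.inv ≫ d₀.left by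
        rw [heI, Iso.inv_hom_id_assoc]]
      infer_instance
    have h' : (Ideal.Quotient.mk I).FinitePresentation :=
      (HasRingHomProperty.Spec_iff (P := @LocallyOfFinitePresentation)).1 h
    haveI : Algebra.FinitePresentation A (A ⧸ I) := h'
    have := Algebra.FinitePresentation.ker_fG_of_surjective (Ideal.Quotient.mkₐ A I)
      Ideal.Quotient.mk_surjective
    rwa [show RingHom.ker (Ideal.Quotient.mkₐ A I).toRingHom = I from Ideal.mk_ker] at this
  have hZin : ∀ (R : Type u) [CommRing R] [Algebra A R], (∀ a ∈ I, algebraMap A R a = 0) →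
      ∃ z : (yon S).obj (SpA sA R) ⟶ Z, z ≫ i = (yon S).map (strA sA R) ≫ ξ := by
    intro R _ _ hR
    let k : (Spec (CommRingCat.of R)) ⟶ D₀.left :=
      Spec.map (CommRingCat.ofHom (Ideal.Quotient.lift I (algebraMap A R) hR)) ≫ eI.inv
    have hk : k ≫ d₀.left = Spec.map (CommRingCat.ofHom (algebraMap A R)) := by
      rw [heI, Category.assoc, Iso.inv_hom_id_assoc, ← Spec.map_comp]
      rfl
    let k' : SpA sA R ⟶ D₀ := Over.homMk k (by
      show k ≫ D₀.hom = _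
      rw [← Over.w d₀, ← Category.assoc, hk]
      rfl)
    refine ⟨(yon S).map k' ≫ δ₀, ?_⟩
    rw [Category.assoc, sq₀.w, ← Category.assoc, ← Functor.map_comp,
      show k' ≫ d₀ = strA sA R from Over.OverMorphism.ext hk]
  obtain ⟨PU, o, δU, sqU, ho⟩ := repWith_exists hj ξ
  haveI : IsOpenImmersion o.left := ho
  have hUo : ∀ (R : Type u) [CommRing R] [Algebra A R], ∀ g ∈ I, IsUnit (algebraMap A R g) →
      ∃ u : (yon S).obj (SpA sA R) ⟶ U, u ≫ j = (yon S).map (strA sA R) ≫ ξ := by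
    intro R _ _ g hg hu
    obtain ⟨u, hu'⟩ := exists_lift_over o (strA sA R) (by
      rintro _ ⟨r, rfl⟩
      have e₁ := preimage_image_map sqU Set.univ
      have e₂ := preimage_image_map sq₀ Set.univ
      rw [Set.image_univ, Set.preimage_univ, Set.image_univ] at e₁ e₂
      rw [← e₁, hU, Set.preimage_compl, e₂]
      rintro ⟨q, hq⟩
      rw [heI, Scheme.Hom.comp_apply] at hq
      have hmem : g ∈ ((strA sA R).left r : PrimeSpectrum A).asIdeal := by
        rw [← hq]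
        show Ideal.Quotient.mk I g ∈ (eI.hom q : PrimeSpectrum (A ⧸ I)).asIdeal
        rw [Ideal.Quotient.eq_zero_iff_mem.2 hg]
        exact zero_mem _
      exact (r : PrimeSpectrum R).isPrime.ne_top (Ideal.eq_top_of_isUnit_mem _
        (show algebraMap A R g ∈ (r : PrimeSpectrum R).asIdeal from hmem) hu))
    exact ⟨(yon S).map u ≫ δU, by
      rw [Category.assoc, sqU.w, ← Category.assoc, ← Functor.map_comp, hu']⟩
  -- the diagonal part
  obtain ⟨Q, q₁, q₂, sqQ⟩ := exists_isPullback_yon hY.diag l₁ l₂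
  have hq₁ : Flat q₁.left := repWith_property hl₂ sqQ.flip
  obtain ⟨δ, hδ₁, hδ₂⟩ : ∃ δ : Q ⟶ P, δ ≫ π₁ = q₁ ∧ δ ≫ π₂ = q₂ := by
    obtain ⟨m, hm⟩ := (yon S).map_surjective (sqP.lift ((yon S).map q₁) ((yon S).map q₂)
      (sqQ.w_assoc f))
    exact ⟨m, (yon S).map_injective (by rw [Functor.map_comp, hm, sqP.lift_fst]),
      (yon S).map_injective (by rw [Functor.map_comp, hm, sqP.lift_snd])⟩
  -- reduce to affine pieces
  let ι := { VO : P.left.affineOpens × T.left.affineOpens // VO.2.1 ≤ m.left ⁻¹ᵁ VO.1.1 }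
  let O : ι → Over S := fun k => Over.mk (k.1.2.1.ι ≫ T.hom)
  let o' : ∀ k, O k ⟶ T := fun k => Over.homMk k.1.2.1.ι rfl
  refine hom_ext_of_family O o' (ofArrows_mem_J O o'
    (fun k => inferInstanceAs (Flat k.1.2.1.ι))
    (fun k => inferInstanceAs (LocallyOfFinitePresentation k.1.2.1.ι)) fun t => ?_) fun k => ?_
  · obtain ⟨V, hV, htV, -⟩ :=
      exists_isAffineOpen_mem_and_subset (X := P.left) (x := m.left t) (U := ⊤) trivial
    obtain ⟨W, hW, htW, hWV⟩ :=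
      exists_isAffineOpen_mem_and_subset (X := T.left) (x := t) (U := m.left ⁻¹ᵁ V) htV
    exact ⟨⟨(⟨V, hV⟩, ⟨W, hW⟩), hWV⟩, ⟨t, htW⟩, rfl⟩
  obtain ⟨⟨⟨V, hV⟩, ⟨W, hW⟩⟩, hWV⟩ := k
  let m₁ : P ⟶ Over.mk sA := π₁ ≫ d₁
  obtain ⟨F, _, _, jF, hjF, rF, hjFm⟩ := exists_spA_open sA m₁ hV
  haveI := hjF
  haveI : Module.Flat A F := by
    have h : Flat (jF.left ≫ π₁.left ≫ d₁.left) := inferInstance
    rw [show jF.left ≫ π₁.left ≫ d₁.left = (strA sA F).left from congrArg CommaMorphism.left hjFm,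
      show (strA sA F).left = Spec.map (CommRingCat.ofHom (algebraMap A F)) from rfl] at h
    exact RingHom.flat_algebraMap_iff.1 ((HasRingHomProperty.Spec_iff (P := @Flat)).1 h)
  let y₁ := (yon S).map (jF ≫ π₁) ≫ l₁
  let y₂ := (yon S).map (jF ≫ π₂) ≫ l₂
  have hy₁ : y₁ ≫ f = (yon S).map (strA sA F) ≫ ξ := by
    rw [Category.assoc, hl₁, ← Category.assoc, ← Functor.map_comp, Category.assoc, hjFm]
  have hy₂ : y₂ ≫ f = (yon S).map (strA sA F) ≫ ξ := by
    rw [← hy₁]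
    simp only [y₁, y₂, Functor.map_comp, Category.assoc]
    rw [sqP.w]
  let κ := { B : Q.left.affineOpens // B.1 ≤ δ.left ⁻¹ᵁ V }
  choose D hDc hDa jD hjD rD hjDm using fun B : κ => exists_spA_open sA (δ ≫ m₁) B.1.2
  haveI : ∀ B, IsOpenImmersion (jD B).left := hjD
  haveI hDflat : ∀ B, Module.Flat A (D B) := fun B => by
    have h : Flat ((jD B).left ≫ q₁.left ≫ d₁.left) := inferInstance
    rw [show (jD B).left ≫ q₁.left ≫ d₁.left = (strA sA (D B)).left by
        rw [← hjDm B, ← hδ₁]; simp [m₁],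
      show (strA sA (D B)).left = Spec.map (CommRingCat.ofHom (algebraMap A (D B))) from rfl] at h
    exact RingHom.flat_algebraMap_iff.1 ((HasRingHomProperty.Spec_iff (P := @Flat)).1 h)
  have hρ : ∀ B, ∃ ρ : F →ₐ[A] D B, spA sA ρ ≫ jF = jD B ≫ δ := fun B => by
    obtain ⟨k, hk⟩ := exists_lift_over jF (jD B ≫ δ) (by
      rintro _ ⟨r, rfl⟩
      rw [rF]
      exact B.2 ((rD B).subset ⟨r, rfl⟩))
    obtain ⟨ρ, rfl⟩ := exists_spA sA k (by
      rw [← hjFm, ← Category.assoc, hk, Category.assoc]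
      exact hjDm B)
    exact ⟨ρ, hk⟩
  choose ρ hρ using hρ
  have hD : ∀ B, (yon S).map (spA sA (ρ B)) ≫ y₁ = (yon S).map (spA sA (ρ B)) ≫ y₂ := fun B => by
    simp only [y₁, y₂, ← Category.assoc, ← Functor.map_comp]
    rw [hρ, Category.assoc (jD B), hδ₁, Category.assoc (jD B), hδ₂, Functor.map_comp,
      Functor.map_comp, Category.assoc, Category.assoc, sqQ.w]
  have hs : Torsion.Splits I ρ := by
    intro q hq hIq
    let J : Ideal F := I.map (algebraMap A F)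
    let πb : F →ₐ[A] F ⧸ J := Ideal.Quotient.mkₐ A J
    have hzero : ∀ a ∈ I, algebraMap A (F ⧸ J) a = 0 := fun a ha => by
      rw [IsScalarTower.algebraMap_apply A F (F ⧸ J), Ideal.Quotient.algebraMap_eq]
      exact Ideal.Quotient.eq_zero_iff_mem.2 (Ideal.mem_map_of_mem _ ha)
    obtain ⟨z, hz⟩ := hZin (F ⧸ J) hzero
    have e₁ : ((yon S).map (spA sA πb) ≫ y₁) ≫ f = z ≫ i := by
      rw [hz, Category.assoc, hy₁, ← Category.assoc, ← Functor.map_comp, spA_strA]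
    have e₂ : ((yon S).map (spA sA πb) ≫ y₂) ≫ f = z ≫ i := by
      rw [hz, Category.assoc, hy₂, ← Category.assoc, ← Functor.map_comp, spA_strA]
    have hzy : (yon S).map (spA sA πb) ≫ y₁ = (yon S).map (spA sA πb) ≫ y₂ := by
      rw [← hFZ.lift_fst _ _ e₁, ← hFZ.lift_fst _ _ e₂]
      congr 1
      rw [← cancel_mono fZ, hFZ.lift_snd, hFZ.lift_snd]
    obtain ⟨σ, hσ₁, hσ₂⟩ : ∃ σ : SpA sA (F ⧸ J) ⟶ Q,
        σ ≫ q₁ = spA sA πb ≫ jF ≫ π₁ ∧ σ ≫ q₂ = spA sA πb ≫ jF ≫ π₂ := by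
      obtain ⟨σ, hσ⟩ := (yon S).map_surjective (sqQ.lift ((yon S).map (spA sA πb ≫ jF ≫ π₁))
        ((yon S).map (spA sA πb ≫ jF ≫ π₂)) (by
          simp only [y₁, y₂, ← Category.assoc, ← Functor.map_comp] at hzy ⊢
          exact hzy))
      exact ⟨σ, (yon S).map_injective (by rw [Functor.map_comp, hσ, sqQ.lift_fst]),
        (yon S).map_injective (by rw [Functor.map_comp, hσ, sqQ.lift_snd])⟩
    have hσδ : σ ≫ δ = spA sA πb ≫ jF := (yon S).map_injective (sqP.hom_ext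
      (by simp only [← Functor.map_comp, Category.assoc, hδ₁, hσ₁])
      (by simp only [← Functor.map_comp, Category.assoc, hδ₂, hσ₂]))
    haveI : (Ideal.map (Ideal.Quotient.mk J) q).IsPrime :=
      Ideal.map_isPrime_of_surjective Ideal.Quotient.mk_surjective (by rwa [Ideal.mk_ker])
    let qb : ↥(Spec (CommRingCat.of (F ⧸ J))) :=
      (⟨Ideal.map (Ideal.Quotient.mk J) q, inferInstance⟩ : PrimeSpectrum (F ⧸ J))
    have hmemV : δ.left (σ.left qb) ∈ V := by
      rw [← Scheme.Hom.comp_apply, ← Over.comp_left, hσδ]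
      exact rF.subset ⟨_, rfl⟩
    obtain ⟨B₀, hB₀, hσB, hB₀V⟩ := exists_isAffineOpen_mem_and_subset (X := Q.left)
      (x := σ.left qb) (U := δ.left ⁻¹ᵁ V) hmemV
    obtain ⟨_, ⟨gb, rfl⟩, hgq, hgB⟩ := PrimeSpectrum.isTopologicalBasis_basic_opens.exists_subset_of_mem_open
      (show (qb : PrimeSpectrum (F ⧸ J)) ∈ σ.left ⁻¹' (B₀ : Set ↥Q.left) from hσB)
      (B₀.2.preimage σ.left.continuous)
    obtain ⟨g, rfl⟩ := Ideal.Quotient.mk_surjective gb
    refine ⟨⟨⟨B₀, hB₀⟩, hB₀V⟩, g, fun hg => hgq (Ideal.mem_map_of_mem _ hg), ?_⟩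
    let L := Localization.Away (Ideal.Quotient.mk J g)
    let loc : F ⧸ J →ₐ[A] L := IsScalarTower.toAlgHom A _ _
    obtain ⟨k, hk⟩ := exists_lift_over (jD ⟨⟨B₀, hB₀⟩, hB₀V⟩) (spA sA loc ≫ σ) (by
      rintro _ ⟨r, rfl⟩
      rw [rD]
      show σ.left ((spA sA loc).left r) ∈ B₀
      refine hgB ?_
      show PrimeSpectrum.comap (algebraMap (F ⧸ J) L) r ∈ PrimeSpectrum.basicOpen _
      rw [← SetLike.mem_coe, ← PrimeSpectrum.localization_away_comap_range L]
      exact ⟨r, rfl⟩)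
    have hσm : σ ≫ δ ≫ m₁ = strA sA (F ⧸ J) := by
      rw [← Category.assoc, hσδ, Category.assoc, hjFm, spA_strA]
    obtain ⟨s, rfl⟩ := exists_spA sA k (by
      rw [← hjDm, ← Category.assoc, hk, Category.assoc, hσm, spA_strA])
    refine ⟨s, fun a => ?_⟩
    haveI : Mono jF := (Over.forget S).mono_of_mono_map (inferInstanceAs (Mono jF.left))
    have : spA sA (s.comp (ρ ⟨⟨B₀, hB₀⟩, hB₀V⟩)) = spA sA (loc.comp πb) := by
      rw [← cancel_mono jF, spA_comp, spA_comp, Category.assoc, hρ, ← Category.assoc, hk,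
        Category.assoc, hσδ, Category.assoc]
    exact RingHom.congr_fun (congrArg CommRingCat.Hom.hom
      (Spec.map_injective (congrArg CommaMorphism.left this))) a
  -- the piece of `T`
  obtain ⟨R, _, _, jT, hjT, rT, hjTm⟩ := exists_spA_open sA (m ≫ m₁) hW
  haveI := hjT
  obtain ⟨c, hc⟩ := exists_lift_over jF (jT ≫ m) (by
    rintro _ ⟨r, rfl⟩
    rw [rF]
    exact hWV (rT.subset ⟨r, rfl⟩))
  obtain ⟨ψ, rfl⟩ := exists_spA sA c (by
    rw [← hjFm, ← Category.assoc, hc, Category.assoc]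
    exact hjTm)
  obtain ⟨xR, hxRd⟩ : ∃ xR, xR = (yon S).map jT ≫ x := ⟨_, rfl⟩
  have hxR : xR ≫ p₁ = (yon S).map (strA sA R) ≫ ξ := by
    rw [hxRd, Category.assoc, h₁, Category.assoc, hl₁, ← Category.assoc, ← Category.assoc,
      ← Functor.map_comp, ← Functor.map_comp, ← hjTm, ← hm₁]
    simp [m₁, Category.assoc]
  let i₁ : F →ₐ[A] F ⊗[A] R := Algebra.TensorProduct.includeLeft
  let i₂ : R →ₐ[A] F ⊗[A] R := Algebra.TensorProduct.includeRight
  have key := agree_core β hp₂ sA ξ I hI hUo y₁ y₂ ρ hs hD R xR hxR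
    ((yon S).map (spA sA i₂) ≫ xR) rfl i₁ rfl
    (by rw [Category.assoc, Category.assoc, hxR, hy₁, ← Category.assoc, ← Category.assoc,
      ← Functor.map_comp, ← Functor.map_comp, spA_strA, spA_strA])
    (by rw [Category.assoc, Category.assoc, hxR, hy₂, ← Category.assoc, ← Category.assoc,
      ← Functor.map_comp, ← Functor.map_comp, spA_strA, spA_strA])
  let sec : F ⊗[A] R →ₐ[A] R :=
    Algebra.TensorProduct.lift ψ (AlgHom.id A R) (fun _ _ => Commute.all _ _)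
  have key' := congrArg ((yon S).map (spA sA sec) ≫ ·) key
  simp only [β.nat] at key'
  -- transport to `O`
  obtain ⟨c', hc'⟩ := exists_lift_over jT (o' ⟨(⟨V, hV⟩, ⟨W, hW⟩), hWV⟩) (by
    rw [rT]
    rintro _ ⟨r, rfl⟩
    exact r.2)
  rw [← hc', Functor.map_comp, Category.assoc, Category.assoc]
  refine congrArg ((yon S).map c' ≫ ·) ?_
  rw [β.nat, β.nat]
  have hsec₁ : sec.comp i₁ = ψ := Algebra.TensorProduct.lift_comp_includeLeft _ _ _
  have hsec₂ : sec.comp i₂ = AlgHom.id A R := by ext r; simp [sec, i₂]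
  have hx₀ : (yon S).map (spA sA sec) ≫ (yon S).map (spA sA i₂) ≫ xR = (yon S).map jT ≫ x := by
    rw [yon_spA_comp, hsec₂]
    rw [show spA sA (AlgHom.id A R) = 𝟙 _ from Over.OverMorphism.ext (Spec.map_id _),
      CategoryTheory.Functor.map_id, Category.id_comp, hxRd]
  have hy₀₁ : (yon S).map (spA sA sec) ≫ (yon S).map (spA sA i₁) ≫ y₁ =
      (yon S).map jT ≫ (yon S).map w₁ ≫ l₁ := by
    rw [yon_spA_comp, hsec₁, ← hm₁]
    simp only [y₁, ← Category.assoc, ← Functor.map_comp]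
    rw [hc]
  have hy₀₂ : (yon S).map (spA sA sec) ≫ (yon S).map (spA sA i₁) ≫ y₂ =
      (yon S).map jT ≫ (yon S).map w₂ ≫ l₂ := by
    rw [yon_spA_comp, hsec₁, ← hm₂]
    simp only [y₂, ← Category.assoc, ← Functor.map_comp]
    rw [hc]
  exact ((β.congr₂ hy₀₁.symm hx₀.symm _ _).trans key').trans (β.congr₂ hy₀₂ hx₀ _ _)

end Groth.Agent.Lib.AlgSpModif
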