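import Groth.Agent.Lib.AlgSpThick.FlatAt
import Mathlib.AlgebraicGeometry.AffineScheme
import Mathlib.AlgebraicGeometry.Morphisms.Flat
import Mathlib.RingTheory.Flat.Localization
import Mathlib.RingTheory.Localization.LocalizationLocalization

/-!
# Localisation of an affine scheme along a closed subset
-/

set_option autoImplicit false

universe u

open CategoryTheory CategoryTheory.Limits AlgebraicGeometry

namespace Groth.Agent.Lib.AlgSpModif

/-- The elements congruent to one modulo an ideal. -/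
def oneAdd {B : Type u} [CommRing B] (J : Ideal B) : Submonoid B :=
  (⊥ : Submonoid (B ⧸ J)).comap (Ideal.Quotient.mk J)

theorem mem_oneAdd {B : Type u} [CommRing B] {J : Ideal B} {b : B} :
    b ∈ oneAdd J ↔ b - 1 ∈ J := by
  simp [oneAdd, ← Ideal.Quotient.mk_eq_mk_iff_sub_mem]

theorem le_comap_of_isMaximal {B : Type u} [CommRing B] (J : Ideal B)
    (P : Ideal (Localization (oneAdd J))) [P.IsMaximal] :
    J ≤ P.comap (algebraMap B (Localization (oneAdd J))) := by
  intro b hb
  by_contra hnb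
  obtain ⟨y, x, hx, e⟩ := (‹P.IsMaximal›).exists_inv (x := algebraMap B _ b) hnb
  obtain ⟨c, s, rfl⟩ := IsLocalization.exists_mk'_eq (oneAdd J) y
  -- clear the denominator
  have hmem : algebraMap B (Localization (oneAdd J)) (s.1 - c * b) ∈ P := by
    have : algebraMap B (Localization (oneAdd J)) (s.1 - c * b) =
        x * algebraMap B _ s.1 := by
      have h := congrArg (· * algebraMap B (Localization (oneAdd J)) s.1) e
      simp only [add_mul, one_mul] at h
      rw [mul_right_comm, IsLocalization.mk'_spec] at h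
      rw [map_sub, map_mul]
      linear_combination -h
    rw [this]
    exact P.mul_mem_right _ hx
  refine (‹P.IsMaximal›).ne_top (Ideal.eq_top_of_isUnit_mem _ hmem
    (IsLocalization.map_units _ (⟨s.1 - c * b, ?_⟩ : oneAdd J)))
  rw [mem_oneAdd, show s.1 - c * b - 1 = (s.1 - 1) - c * b by ring]
  exact J.sub_mem (mem_oneAdd.1 s.2) (J.mul_mem_left _ hb)

theorem disjoint_oneAdd {B : Type u} [CommRing B] {J p : Ideal B} (hp : p ≠ ⊤) (h : J ≤ p) :
    Disjoint (oneAdd J : Set B) (p : Set B) :=
  Set.disjoint_left.2 fun b hb hb' ↦ hp ((p.eq_top_iff_one).2 (by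
    have := p.sub_mem hb' (h (mem_oneAdd.1 hb))
    rwa [sub_sub_cancel] at this))

theorem flat_localization_oneAdd {R B : Type u} [CommRing R] [CommRing B] [Algebra R B] (J : Ideal B)
    (h : ∀ (p : Ideal B) [p.IsPrime], J ≤ p → Module.Flat R (Localization.AtPrime p)) :
    Module.Flat R (Localization (oneAdd J)) := by
  refine Module.flat_of_isLocalized_maximal (Localization (oneAdd J)) (Localization (oneAdd J))
    (fun P _ ↦ Localization.AtPrime P)
    (fun P _ ↦ Algebra.linearMap (Localization (oneAdd J)) (Localization.AtPrime P)) fun P _ ↦ ?_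
  haveI := IsLocalization.isLocalization_isLocalization_atPrime_isLocalization (oneAdd J)
    (Localization.AtPrime P) P
  haveI := h (P.comap (algebraMap B (Localization (oneAdd J)))) (le_comap_of_isMaximal J P)
  exact Module.Flat.of_linearEquiv ((IsLocalization.algEquiv
    (P.comap (algebraMap B (Localization (oneAdd J)))).primeCompl (Localization.AtPrime P)
    (Localization.AtPrime (P.comap (algebraMap B (Localization (oneAdd J)))))).restrictScalars
      R).toLinearEquiv

theorem flat_comp_of_stalkMap {R B : CommRingCat.{u}} (φ : R ⟶ B) (pt : PrimeSpectrum B)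
    (h : ((Spec.map φ).stalkMap pt).hom.Flat) :
    ((algebraMap B (Localization.AtPrime pt.asIdeal)).comp φ.hom).Flat := by
  haveI := RingHom.toMorphismProperty_respectsIso_iff.1 RingHom.Flat.respectsIso.{u}
  have h1 : (CommRingCat.ofHom (Localization.localRingHom (PrimeSpectrum.comap φ.hom pt).asIdeal
      pt.asIdeal φ.hom rfl)).hom.Flat :=
    (MorphismProperty.arrow_mk_iso_iff (RingHom.toMorphismProperty RingHom.Flat)
      (Scheme.arrowStalkMapSpecIso φ pt)).1 h
  have h2 : (algebraMap R (Localization.AtPrime (PrimeSpectrum.comap φ.hom pt).asIdeal)).Flat :=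
    RingHom.flat_algebraMap_iff.2 (IsLocalization.flat _ (PrimeSpectrum.comap φ.hom pt).asIdeal.primeCompl)
  have h3 := RingHom.Flat.comp h2 h1
  convert h3 using 1
  exact RingHom.ext fun r ↦ (Localization.localRingHom_to_map _ _ _ rfl r).symm

theorem flat_stalkMap_conj {X X' Y Y' : Scheme.{u}} (a : X' ⟶ X) (f : X ⟶ Y) (b : Y ⟶ Y')
    (g : X' ⟶ Y') [IsIso a] [IsIso b] (hg : a ≫ f ≫ b = g) (x : X')
    (h : (f.stalkMap (a x)).hom.Flat) : (g.stalkMap x).hom.Flat := by
  subst hg
  exact AlgSpThick.FlatAt.flat_stalkMap_comp _ _ x (Flat.stalkMap a x)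
    (AlgSpThick.FlatAt.flat_stalkMap_comp _ _ _ h (Flat.stalkMap b _))

/-- An affine scheme can be localised along a closed set of flat points. -/
theorem exists_flat_localization {V O : Scheme.{u}} [IsAffine V] [IsAffine O] (m : V ⟶ O)
    (C : Set ↥V) (hC : IsClosed C) (hflat : ∀ v ∈ C, (m.stalkMap v).hom.Flat) :
    ∃ (V' : Scheme.{u}) (_ : IsAffine V') (ψ : V' ⟶ V), Flat ψ ∧ Flat (ψ ≫ m) ∧ C ⊆ Set.range ψ := by
  let e := V.isoSpec
  let C' : Set (PrimeSpectrum Γ(V, ⊤)) := e.inv ⁻¹' C
  have hC' : IsClosed C' := hC.preimage e.inv.continuous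
  let J := PrimeSpectrum.vanishingIdeal C'
  have hJ : PrimeSpectrum.zeroLocus (J : Set Γ(V, ⊤)) = C' := by
    rw [PrimeSpectrum.zeroLocus_vanishingIdeal_eq_closure, hC'.closure_eq]
  let B' := Localization (oneAdd J)
  let ι : Γ(V, ⊤) ⟶ CommRingCat.of B' := CommRingCat.ofHom (algebraMap Γ(V, ⊤) B')
  refine ⟨Spec (CommRingCat.of B'), inferInstance, Spec.map ι ≫ e.inv, ?_, ?_, fun v hv ↦ ?_⟩
  · suffices Flat (Spec.map ι) from inferInstance
    rw [HasRingHomProperty.Spec_iff (P := @Flat)]
    show RingHom.Flat (algebraMap Γ(V, ⊤) B')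
    exact RingHom.flat_algebraMap_iff.2 (IsLocalization.flat _ (oneAdd J))
  · have hcomp : (Spec.map ι ≫ e.inv) ≫ m = Spec.map (m.appTop ≫ ι) ≫ O.isoSpec.inv := by
      rw [Spec.map_comp, Category.assoc, Category.assoc, Scheme.isoSpec_inv_naturality]
    rw [hcomp]
    suffices Flat (Spec.map (m.appTop ≫ ι)) from inferInstance
    rw [HasRingHomProperty.Spec_iff (P := @Flat)]
    letI : Algebra Γ(O, ⊤) Γ(V, ⊤) := m.appTop.hom.toAlgebra
    show RingHom.Flat (algebraMap Γ(O, ⊤) B')
    rw [RingHom.flat_algebraMap_iff]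
    refine flat_localization_oneAdd J fun p _ hp ↦ ?_
    let pt : PrimeSpectrum Γ(V, ⊤) := ⟨p, inferInstance⟩
    have hpt : pt ∈ C' := hJ.subset hp
    have h2 : e.inv ≫ m ≫ O.isoSpec.hom = Spec.map m.appTop := by
      rw [← reassoc_of% Scheme.isoSpec_inv_naturality, Iso.inv_hom_id, Category.comp_id]
    have h0 : (m.stalkMap (e.inv pt)).hom.Flat := hflat (e.inv pt) hpt
    have h3 := flat_comp_of_stalkMap m.appTop pt
      (flat_stalkMap_conj e.inv m O.isoSpec.hom (Spec.map m.appTop) h2 pt h0)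
    rw [← RingHom.flat_algebraMap_iff]
    exact h3
  · let pt : PrimeSpectrum Γ(V, ⊤) := e.hom v
    have hpt : e.inv pt = v := by simp [pt, ← Scheme.Hom.comp_apply]
    have hJle : J ≤ pt.asIdeal := hJ.ge (show pt ∈ C' by show e.inv pt ∈ C; rwa [hpt])
    obtain ⟨q, hq⟩ : pt ∈ Set.range (PrimeSpectrum.comap (algebraMap Γ(V, ⊤) B')) := by
      rw [PrimeSpectrum.localization_comap_range B' (oneAdd J)]
      exact disjoint_oneAdd pt.isPrime.ne_top hJle
    exact ⟨q, by rw [Scheme.Hom.comp_apply]; exact (congrArg e.inv hq).trans hpt⟩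

end Groth.Agent.Lib.AlgSpModif
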