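import Groth.Prelude.Def_AlgSpCov
import Groth.Agent.Lib.AlgSpModif.FlatLoc
import Groth.Agent.Lib.AlgSpMor.QC
import Groth.Agent.Lib.AlgSpMor.LocP
import Groth.Agent.Lib.AlgSpDecent.Core
import Groth.Agent.Lib.AlgSpace.OpenSubExists
import Groth.Agent.Lib.Spectral.Constructible

/-!
# An fpqc covering refining an open and a modification
-/

set_option autoImplicit false
set_option linter.style.haveILetI false

universe u

open CategoryTheory CategoryTheory.Limits AlgebraicGeometry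

namespace Groth.Agent.Lib.AlgSpModif

open AlgSp (Sp yon Representable RepWith IsAlgSpace Points LocP IsFlatAtMor Space)
open Groth.Agent.Lib.AlgSpace Groth.Agent.Lib.AlgSpMor

variable {S : Scheme.{u}}

/-- Over an affine etale chart of the base the modification has a flat affine piece covering the
closed part. -/
theorem exists_flat_piece {X Y Z FZ U : Sp S} (hX : IsAlgSpace X) (hY : IsAlgSpace Y) {f : Y ⟶ X}
    (hqc : AlgSp.IsQuasiCompactMor f) {i : Z ⟶ X} {iY : FZ ⟶ Y} {fZ : FZ ⟶ Z}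
    (hFZ : IsPullback iY fZ f i) [IsIso fZ]
    (hflat : ∀ y ∈ Set.range (Points.map iY), IsFlatAtMor f y) {j : U ⟶ X}
    (hj : RepWith @IsOpenImmersion j)
    (hU : Set.range (Points.map j) = (Set.range (Points.map i))ᶜ) (T : Over S) [IsAffine T.left]
    (ξ : (yon S).obj T ⟶ X) (hξ : RepWith @Etale ξ) :
    ∃ (W : Over S) (_ : IsAffine W.left) (d : W ⟶ T) (l : (yon S).obj W ⟶ Y),
      Flat d.left ∧ (∃ (V : Over S) (_ : IsAffine V.left) (ψ : W ⟶ V) (a : (yon S).obj V ⟶ Y),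
        Flat ψ.left ∧ RepWith @Etale a ∧ l = (yon S).map ψ ≫ a ∧
        ∀ v : ↥V.left, Points.ofPt (a ≫ f) v ∉ Set.range (Points.map j) → v ∈ Set.range ψ.left) ∧
      l ≫ f = (yon S).map d ≫ ξ ∧
      ∀ t : ↥T.left, Points.ofPt ξ t ∉ Set.range (Points.map j) → t ∈ Set.range d.left := by
  haveI : MorphismProperty.IsStableUnderComposition (@Etale : MorphismProperty Scheme.{u}) :=
    ⟨fun f g (_ : Etale f) (_ : Etale g) ↦ inferInstanceAs (Etale (f ≫ g))⟩
  have sqY := IsPullback.of_hasPullback f ξ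
  have hQ : IsAlgSpace (pullback f ξ) :=
    isAlgSpace_of_isPullback sqY hX.diag hY (IsAlgSpace.yon_obj T)
  haveI := QC.compactSpace_points (hqc (IsAlgSpace.yon_obj T) QC.isQuasiCompactSp_yon ξ _ _ sqY)
  obtain ⟨V, p, hV, hp, hps⟩ := QC.exists_affine_atlas hQ
  haveI := hV
  obtain ⟨m, hm⟩ := (yon S).map_surjective (p ≫ pullback.snd f ξ)
  let a := p ≫ pullback.fst f ξ
  have ha : RepWith @Etale a := repWith_comp hp (repWith_baseChange sqY.flip hξ)
  have w : a ≫ f = (yon S).map m ≫ ξ := by rw [hm, Category.assoc, Category.assoc, sqY.w]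
  let C : Set ↥V.left := {v | Points.ofPt (a ≫ f) v ∉ Set.range (Points.map j)}
  have hC : IsClosed C :=
    ((isOpenEmbedding_map hj).isOpen_range.preimage (Points.continuous_ofPt _)).isClosed_compl
  obtain ⟨V', hV', ψ, hψ, hψf, hψr⟩ := exists_flat_localization m.left C hC fun v hv ↦ by
    have hv' : Points.ofPt (a ≫ f) v ∈ Set.range (Points.map i) := by
      simpa [C, hU] using hv
    obtain ⟨z, hz⟩ := hv'
    obtain ⟨y₀, hy₀, -⟩ := exists_of_isPullback hFZ (Points.ofPt a v) z (by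
      rw [Points.map_ofPt, hz])
    exact hflat _ ⟨y₀, hy₀⟩ a ξ m v ha hξ w rfl
  let W : Over S := Over.mk (ψ ≫ V.hom)
  let ψ' : W ⟶ V := Over.homMk ψ rfl
  refine ⟨W, hV', ψ' ≫ m, (yon S).map ψ' ≫ a, hψf,
    ⟨V, hV, ψ', a, hψ, ha, rfl, fun v hv ↦ hψr hv⟩,
    by rw [Category.assoc, w, Functor.map_comp, Category.assoc], fun t ht ↦ ?_⟩
  obtain ⟨z, hz⟩ : Points.ofPt ξ t ∈ Set.range (Points.map i) := by simpa [hU] using ht
  obtain ⟨q, hq₁, hq₂⟩ := exists_of_isPullback sqY (Points.map (inv fZ ≫ iY) z)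
    (Points.ofScheme T t) (by
      rw [← Points.map_comp, Category.assoc, hFZ.w, IsIso.inv_hom_id_assoc, hz]
      exact (AlgSpDecent.Core.map_ofScheme ξ t).symm)
  obtain ⟨v, rfl⟩ := AlgSpDecent.Core.surjective_ofPt hps q
  have hmv : m.left v = t := by
    refine (Points.schemeEquiv T).injective ?_
    show Points.ofScheme T (m.left v) = Points.ofScheme T t
    rw [← hq₂, Points.map_ofPt, ← hm, AlgSpDecent.Core.ofPt_yon_map]
  obtain ⟨v', hv'⟩ := hψr (show v ∈ C by
    show Points.ofPt (a ≫ f) v ∉ Set.range (Points.map j)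
    rw [w, ofPt_yon_map_comp, hmv]
    exact ht)
  exact ⟨v', by rw [Over.comp_left, Scheme.Hom.comp_apply, show ψ'.left v' = v from hv', hmv]⟩

/-- The part over the open of an affine scheme mapping to the base is quasi-compact. -/
theorem compactSpace_open_part {X Z U : Sp S} (hX : IsAlgSpace X) {i : Z ⟶ X}
    (hi : RepWith @IsClosedImmersion i) (hifp : LocP @LocallyOfFinitePresentation i) {j : U ⟶ X}
    (hU : Set.range (Points.map j) = (Set.range (Points.map i))ᶜ) {A P : Over S} [IsAffine A.left]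
    {ξ : (yon S).obj A ⟶ X} {o : P ⟶ A} [IsOpenImmersion o.left] {x : (yon S).obj P ⟶ U}
    (sq : IsPullback x ((yon S).map o) j ξ) : CompactSpace ↥P.left := by
  have hir : RepWith @LocallyOfFinitePresentation i :=
    LocP.repWith_of_locP (LocP.etaleLocalST_of_list (Or.inr (Or.inl rfl))) hX hi.rep hifp
  obtain ⟨D, d, δ, sqD, hd⟩ := repWith_exists hi ξ
  haveI : IsClosedImmersion d.left := hd
  haveI : LocallyOfFinitePresentation d.left := repWith_property hir sqD
  have e₁ := preimage_image_map sq Set.univ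
  have e₂ := preimage_image_map sqD Set.univ
  rw [Set.image_univ, Set.preimage_univ, Set.image_univ] at e₁ e₂
  rw [hU, Set.preimage_compl, e₂] at e₁
  have hc : IsCompact (Set.range o.left) := by
    rw [← e₁]
    haveI : CompactSpace ↥D.left := d.left.isClosedEmbedding.compactSpace
    refine (Spectral.Constructible.isRetrocompact ?_).isCompact
    rw [Set.compl_eq_univ_sdiff, ← Set.image_univ]
    exact Topology.IsConstructible.univ.sdiff
      (d.left.isConstructible_image Topology.IsConstructible.univ)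
  exact ⟨o.left.isOpenEmbedding.isInducing.isCompact_iff.2 (by rwa [Set.image_univ])⟩

/-- The covering. -/
theorem exists_fpqc_cover {X Y Z FZ U : Space S} (f : Y ⟶ X)
    (hqc : AlgSp.IsQuasiCompactMor f.hom) (i : Z ⟶ X) (hi : RepWith @IsClosedImmersion i.hom)
    (hifp : LocP @LocallyOfFinitePresentation i.hom) (iY : FZ ⟶ Y) (fZ : FZ ⟶ Z)
    (hFZ : IsPullback iY.hom fZ.hom f.hom i.hom) [IsIso fZ]
    (hflat : ∀ y ∈ Set.range (Points.map iY.hom), IsFlatAtMor f.hom y) (j : U ⟶ X)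
    (hj : RepWith @IsOpenImmersion j.hom)
    (hU : Set.range (Points.map j.hom) = (Set.range (Points.map i.hom))ᶜ) :
    ∃ (ι : Type u) (W : ι → Space S) (w : ∀ k, W k ⟶ X),
      AlgSp.IsFpqcCover (fun k => (W k).obj) (fun k => (w k).hom) ∧
        ∀ k, (∃ l : W k ⟶ U, l ≫ j = w k) ∨ (∃ l : W k ⟶ Y, l ≫ f = w k) := by
  haveI : IsIso fZ.hom := (ObjectProperty.ι _).map_isIso fZ
  haveI : MorphismProperty.IsStableUnderComposition (@Etale : MorphismProperty Scheme.{u}) :=
    ⟨fun f g (_ : Etale f) (_ : Etale g) ↦ inferInstanceAs (Etale (f ≫ g))⟩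
  haveI : MorphismProperty.IsStableUnderComposition (@Flat : MorphismProperty Scheme.{u}) :=
    (inferInstance : MorphismProperty.IsMultiplicative @Flat.{u}).toIsStableUnderComposition
  obtain ⟨X₀, u, hu, hus⟩ := X.property.atlas
  let T : ↥X₀.left.affineOpens → Over S := fun O ↦ Over.mk (O.1.ι ≫ X₀.hom)
  let κ : ∀ O, T O ⟶ X₀ := fun O ↦ Over.homMk O.1.ι rfl
  have hκ : ∀ O, Etale (κ O).left := fun O ↦ inferInstanceAs (Etale O.1.ι)
  have hξ : ∀ O, RepWith @Etale ((yon S).map (κ O) ≫ u) := fun O ↦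
    haveI := hκ O; LocP.repWith_etale_comp (κ O) hu
  haveI hTa : ∀ O, IsAffine (T O).left := fun O ↦ O.2
  choose W₁ hW₁ d l hd hlf hl hcov using fun O ↦
    exists_flat_piece X.property Y.property hqc hFZ hflat hj hU (T O) _ (hξ O)
  let W : Option ↥X₀.left.affineOpens → Space S :=
    fun k ↦ k.elim U fun O ↦ ⟨(yon S).obj (W₁ O), IsAlgSpace.yon_obj _⟩
  let w : ∀ k, W k ⟶ X := fun k ↦ match k with
    | none => j
    | some O => ObjectProperty.homMk ((yon S).map (d O) ≫ (yon S).map (κ O) ≫ u)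
  refine ⟨Option ↥X₀.left.affineOpens, W, w, ⟨fun k ↦ ?_, ?_⟩, fun k ↦ ?_⟩
  · rcases k with _ | O
    · exact LocP.locP_of_repWith SourceDescent.Scheme.flat
        (repWith_mono hj fun _ _ g (_ : IsOpenImmersion g) ↦ (inferInstance : Flat g))
    · exact LocP.locP_of_repWith SourceDescent.Scheme.flat (repWith_yon_map_comp (hd O)
        (repWith_mono (hξ O) fun _ _ g (_ : Etale g) ↦ (inferInstance : Flat g)))
  swap
  · rcases k with _ | O
    · exact .inl ⟨𝟙 U, Category.id_comp _⟩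
    · exact .inr ⟨ObjectProperty.homMk (l O), ObjectProperty.hom_ext _ (hl O)⟩
  intro Z₀ hZ₀ h
  haveI := hZ₀
  obtain ⟨R, r₁, r₂, sqR⟩ := exists_isPullback_yon X.property.diag u h
  haveI : Etale r₂.left := repWith_property hu sqR
  haveI : Surjective r₂.left := repWith_property hus sqR
  -- finitely many affine pieces of `R`
  have hpiece : ∀ z : ↥Z₀.left, ∃ (A : ↥R.left.affineOpens) (O : ↥X₀.left.affineOpens),
      (∀ r ∈ A.1, r₁.left r ∈ O.1) ∧ z ∈ r₂.left '' (A.1 : Set ↥R.left) := fun z ↦ by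
    obtain ⟨r, rfl⟩ := r₂.left.surjective z
    obtain ⟨O, hO, hrO, -⟩ := exists_isAffineOpen_mem_and_subset (U := ⊤) (Set.mem_univ (r₁.left r))
    obtain ⟨A, hA, hrA, hAO⟩ := exists_isAffineOpen_mem_and_subset
      (U := r₁.left ⁻¹ᵁ O) (show r ∈ r₁.left ⁻¹ᵁ O from hrO)
    exact ⟨⟨A, hA⟩, ⟨O, hO⟩, fun r hr ↦ hAO hr, r, hrA, rfl⟩
  choose A O hAO hzA using hpiece
  obtain ⟨s, hs⟩ := isCompact_univ.elim_finite_subcover
    (fun z ↦ r₂.left '' ((A z).1 : Set ↥R.left)) (fun z ↦ r₂.left.isOpenMap _ (A z).1.2)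
    (fun z _ ↦ Set.mem_iUnion.2 ⟨z, hzA z⟩)
  let RA : ↥s → Over S := fun z ↦ Over.mk ((A z.1).1.ι ≫ R.hom)
  let α : ∀ z, RA z ⟶ R := fun z ↦ Over.homMk (A z.1).1.ι rfl
  haveI hRA : ∀ z, IsAffine (RA z).left := fun z ↦ (A z.1).2
  have hrg : ∀ z : ↥s, Set.range (α z ≫ r₁).left ⊆ Set.range (κ (O z.1)).left := by
    rintro z _ ⟨x, rfl⟩
    exact (O z.1).1.range_ι.ge (hAO z.1 _ x.2)
  haveI hκo : ∀ o, IsOpenImmersion (κ o).left := fun o ↦ inferInstanceAs (IsOpenImmersion o.1.ι)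
  let g : ∀ z : ↥s, RA z ⟶ T (O z.1) := fun z ↦
    Over.homMk (IsOpenImmersion.lift (κ (O z.1)).left (α z ≫ r₁).left (hrg z)) (by
      rw [← Over.w (κ (O z.1)), IsOpenImmersion.lift_fac_assoc, Over.w])
  have hg : ∀ z, g z ≫ κ (O z.1) = α z ≫ r₁ := fun z ↦
    Over.OverMorphism.ext (IsOpenImmersion.lift_fac _ _ _)
  choose P o x sqP hoP using fun z : ↥s ↦ repWith_exists hj ((yon S).map (α z ≫ r₂) ≫ h)
  haveI : ∀ z, IsOpenImmersion (o z).left := hoP
  have hPc : ∀ z, CompactSpace ↥(P z).left := fun z ↦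
    compactSpace_open_part X.property hi hifp hU (sqP z)
  choose t ht using fun z ↦ (hPc z).isCompact_univ.elim_finite_subcover
    (fun B : ↥(P z).left.affineOpens ↦ (B.1 : Set ↥(P z).left)) (fun B ↦ B.1.2)
    (fun p _ ↦ by
      obtain ⟨B, hB, hp, -⟩ := exists_isAffineOpen_mem_and_subset (U := ⊤) (Set.mem_univ p)
      exact Set.mem_iUnion.2 ⟨⟨B, hB⟩, hp⟩)
  let σ := Σ z : ↥s, Option ↥(t z)
  let V : σ → Over S := fun k ↦ match k with
    | ⟨z, none⟩ => Limits.pullback (g z) (d (O z.1))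
    | ⟨z, some B⟩ => Over.mk (B.1.1.ι ≫ (P z).hom)
  let cV : ∀ k, V k ⟶ Z₀ := fun k ↦ match k with
    | ⟨z, none⟩ => pullback.fst (g z) (d (O z.1)) ≫ α z ≫ r₂
    | ⟨z, some B⟩ => (Over.homMk B.1.1.ι rfl : Over.mk (B.1.1.ι ≫ (P z).hom) ⟶ P z) ≫ o z ≫ α z ≫ r₂
  let e := Finite.equivFin σ
  refine ⟨Nat.card σ, fun m ↦ V (e.symm m), fun m ↦ cV (e.symm m), fun m ↦ ?_, fun m ↦ ?_,
    fun z₀ ↦ ?_, fun m ↦ ?_⟩
  · show IsAffine (V (e.symm m)).left
    generalize e.symm m = k
    rcases k with ⟨z, _ | B⟩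
    · haveI := hW₁ (O z.1)
      haveI : IsAffine (Limits.pullback ((Over.forget S).map (g z))
          ((Over.forget S).map (d (O z.1)))) :=
        inferInstanceAs (IsAffine (Limits.pullback (g z).left (d (O z.1)).left))
      exact .of_isIso ((IsPullback.of_hasPullback (g z) (d (O z.1))).map (Over.forget S)).isoPullback.hom
    · exact B.1.2
  · show Flat (cV (e.symm m)).left
    generalize e.symm m = k
    rcases k with ⟨z, _ | B⟩
    · haveI : Flat (pullback.fst (g z) (d (O z.1))).left := MorphismProperty.of_isPullback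
        (P := @Flat) ((IsPullback.of_hasPullback (g z) (d (O z.1))).map (Over.forget S)).flip (hd _)
      haveI : Flat (α z).left := inferInstanceAs (Flat (A z.1).1.ι)
      show Flat ((pullback.fst (g z) (d (O z.1))).left ≫ (α z).left ≫ r₂.left)
      infer_instance
    · haveI : Flat (α z).left := inferInstanceAs (Flat (A z.1).1.ι)
      show Flat (B.1.1.ι ≫ (o z).left ≫ (α z).left ≫ r₂.left)
      infer_instance
  · obtain ⟨z, hzs, r, hr, rfl⟩ := Set.mem_iUnion₂.1 (hs (Set.mem_univ z₀))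
    suffices ∃ k : σ, r₂.left r ∈ Set.range (cV k).left by
      obtain ⟨k, hk⟩ := this
      exact ⟨e k, by show _ ∈ Set.range (cV (e.symm (e k))).left; rwa [e.symm_apply_apply]⟩
    let z' : ↥s := ⟨z, hzs⟩
    let r' : ↥(RA z').left := ⟨r, hr⟩
    by_cases hin : r' ∈ Set.range (o z').left
    · obtain ⟨p, hp⟩ := hin
      obtain ⟨B, hBt, hpB⟩ := Set.mem_iUnion₂.1 (ht z' (Set.mem_univ p))
      exact ⟨⟨z', some ⟨B, hBt⟩⟩, ⟨p, hpB⟩, (congrArg (α z' ≫ r₂).left hp :)⟩
    · have hnot : Points.ofPt ((yon S).map (κ (O z)) ≫ u) ((g z').left r') ∉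
          Set.range (Points.map j.hom) := fun hmem ↦ by
        refine hin ?_
        have hm : r' ∈ Points.ofPt ((yon S).map (α z' ≫ r₂) ≫ h) ⁻¹'
            (Points.map j.hom '' Set.univ) := by
          rw [Set.image_univ, Set.mem_preimage]
          convert hmem using 1
          rw [← ofPt_yon_map_comp, ← Functor.map_comp_assoc, hg, Functor.map_comp, Functor.map_comp,
            Category.assoc, Category.assoc, sqR.w]
        rw [preimage_image_map (sqP z')] at hm
        obtain ⟨p, -, hp⟩ := hm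
        exact ⟨p, hp⟩
      obtain ⟨v, hv⟩ := hcov (O z) _ hnot
      obtain ⟨y, hy, -⟩ := Scheme.exists_preimage_of_isPullback
        ((IsPullback.of_hasPullback (g z') (d (O z))).map (Over.forget S)) r' v hv.symm
      exact ⟨⟨z', none⟩, y, (congrArg (α z' ≫ r₂).left hy :)⟩
  · show ∃ (i' : _) (l' : (yon S).obj (V (e.symm m)) ⟶ (W i').obj),
      l' ≫ (w i').hom = (yon S).map (cV (e.symm m)) ≫ h
    generalize e.symm m = k
    rcases k with ⟨z, _ | B⟩
    · refine ⟨some (O z.1), (yon S).map (pullback.snd (g z) (d (O z.1))), ?_⟩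
      show _ ≫ (yon S).map (d (O z.1)) ≫ (yon S).map (κ (O z.1)) ≫ u =
        (yon S).map (pullback.fst (g z) (d (O z.1)) ≫ α z ≫ r₂) ≫ h
      simp only [Functor.map_comp, Category.assoc, ← sqR.w]
      rw [← Functor.map_comp_assoc, ← pullback.condition, Functor.map_comp_assoc]
      simp only [← Functor.map_comp_assoc, hg]
    · refine ⟨none, (yon S).map
        (Over.homMk B.1.1.ι rfl : Over.mk (B.1.1.ι ≫ (P z).hom) ⟶ P z) ≫ x z, ?_⟩
      show (_ ≫ _) ≫ j.hom = _
      rw [Category.assoc, (sqP z).w]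
      simp only [cV, Functor.map_comp, Category.assoc]

end Groth.Agent.Lib.AlgSpModif
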