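import Groth.Agent.Lib.AlgSpModif.Cover
import Groth.Agent.Lib.AlgSpGabber.HomDesc

/-!
# Refinements by the open part and flat pieces
-/

set_option autoImplicit false
set_option linter.style.haveILetI false

universe u

open CategoryTheory CategoryTheory.Limits AlgebraicGeometry

namespace Groth.Agent.Lib.AlgSpModif

open AlgSp (Sp yon Representable RepWith IsAlgSpace Points LocP)
open Groth.Agent.Lib.AlgSpace

variable {S : Scheme.{u}} {X X' Z U : Sp S}

/-- A family refines fpqc locally if, on affine schemes, it does so over the open and, etale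
locally, by flat affine pieces near the closed part. -/
theorem refines_of_local (q : X' ⟶ X) (hX : IsAlgSpace X) {i : Z ⟶ X}
    (hi : RepWith @IsClosedImmersion i) (hifp : LocP @LocallyOfFinitePresentation i) {j : U ⟶ X}
    (hj : RepWith @IsOpenImmersion j)
    (hU : Set.range (Points.map j) = (Set.range (Points.map i))ᶜ) {ι : Type u} (Yc : ι → Sp S)
    (g : ∀ k, Yc k ⟶ X')
    (hUlift : ∀ (T : Over S) (h : (yon S).obj T ⟶ X') (u : (yon S).obj T ⟶ U), u ≫ j = h ≫ q →
      ∃ (k : ι) (l : (yon S).obj T ⟶ Yc k), l ≫ g k = h)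
    (hloc : ∀ (T : Over S), IsAffine T.left → ∀ (h : (yon S).obj T ⟶ X') (t : ↥T.left),
      Points.ofPt (h ≫ q) t ∉ Set.range (Points.map j) →
      ∃ (A V W : Over S) (e : A ⟶ T) (g' : A ⟶ V) (ψ : W ⟶ V),
        IsAffine A.left ∧ IsAffine V.left ∧ IsAffine W.left ∧ Etale e.left ∧ Flat ψ.left ∧
        t ∈ Set.range e.left ∧
        (∀ a : ↥A.left, Points.ofPt (h ≫ q) (e.left a) ∉ Set.range (Points.map j) →
          g'.left a ∈ Set.range ψ.left) ∧
        ∀ (B : Over S) (b₁ : B ⟶ A) (b₂ : B ⟶ W), b₁ ≫ g' = b₂ ≫ ψ →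
          ∃ (k : ι) (l : (yon S).obj B ⟶ Yc k), l ≫ g k = (yon S).map (b₁ ≫ e) ≫ h) :
    AlgSpGabber.HomDesc.Refines Yc g := by
  intro T hT h
  haveI := hT
  let C : Set ↥T.left := {t | Points.ofPt (h ≫ q) t ∉ Set.range (Points.map j)}
  have hC : IsClosed C :=
    ((isOpenEmbedding_map hj).isOpen_range.preimage (Points.continuous_ofPt _)).isClosed_compl
  choose A V W e g' ψ hA hV hW he hψ hte hgψ hlift using fun t : ↥C => hloc T hT h t.1 t.2
  obtain ⟨s, hs⟩ := hC.isCompact.elim_finite_subcover (fun t : ↥C => Set.range (e t).left)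
    (fun t => haveI := he t; (e t).left.isOpenMap.isOpen_range)
    (fun t ht => Set.mem_iUnion.2 ⟨⟨t, ht⟩, hte ⟨t, ht⟩⟩)
  obtain ⟨P, o, x, sqP, hoP⟩ := repWith_exists hj (h ≫ q)
  haveI : IsOpenImmersion o.left := hoP
  have hPc : CompactSpace ↥P.left := compactSpace_open_part hX hi hifp hU sqP
  obtain ⟨t₀, ht₀⟩ := hPc.isCompact_univ.elim_finite_subcover
    (fun B : ↥P.left.affineOpens => (B.1 : Set ↥P.left)) (fun B => B.1.2)
    (fun p _ => by
      obtain ⟨B, hB, hp, -⟩ := exists_isAffineOpen_mem_and_subset (U := ⊤) (Set.mem_univ p)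
      exact Set.mem_iUnion.2 ⟨⟨B, hB⟩, hp⟩)
  let σ := ↥s ⊕ ↥t₀
  let B : σ → Over S := fun k => match k with
    | .inl t => Limits.pullback (g' t.1) (ψ t.1)
    | .inr B => Over.mk (B.1.1.ι ≫ P.hom)
  let c : ∀ k, B k ⟶ T := fun k => match k with
    | .inl t => pullback.fst (g' t.1) (ψ t.1) ≫ e t.1
    | .inr B => (Over.homMk B.1.1.ι rfl : Over.mk (B.1.1.ι ≫ P.hom) ⟶ P) ≫ o
  let E := Finite.equivFin σ
  refine ⟨Nat.card σ, fun m => B (E.symm m), fun m => c (E.symm m), fun m => ?_, fun m => ?_,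
    fun z => ?_, fun m => ?_⟩
  · show IsAffine (B (E.symm m)).left
    generalize E.symm m = k
    rcases k with t | B₀
    · haveI := hA t.1; haveI := hV t.1; haveI := hW t.1
      haveI : IsAffine (Limits.pullback ((Over.forget S).map (g' t.1))
          ((Over.forget S).map (ψ t.1))) :=
        inferInstanceAs (IsAffine (Limits.pullback (g' t.1).left (ψ t.1).left))
      exact .of_isIso ((IsPullback.of_hasPullback (g' t.1) (ψ t.1)).map
        (Over.forget S)).isoPullback.hom
    · exact B₀.1.2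
  · show Flat (c (E.symm m)).left
    generalize E.symm m = k
    rcases k with t | B₀
    · haveI : Flat (pullback.fst (g' t.1) (ψ t.1)).left := MorphismProperty.of_isPullback
        (P := @Flat) ((IsPullback.of_hasPullback (g' t.1) (ψ t.1)).map (Over.forget S)).flip (hψ _)
      haveI := he t.1
      show Flat ((pullback.fst (g' t.1) (ψ t.1)).left ≫ (e t.1).left)
      infer_instance
    · show Flat (B₀.1.1.ι ≫ o.left)
      infer_instance
  · suffices ∃ k : σ, z ∈ Set.range (c k).left by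
      obtain ⟨k, hk⟩ := this
      exact ⟨E k, by show _ ∈ Set.range (c (E.symm (E k))).left; rwa [E.symm_apply_apply]⟩
    by_cases hz : z ∈ C
    · obtain ⟨t, hts, a, rfl⟩ := Set.mem_iUnion₂.1 (hs hz)
      obtain ⟨w, hw⟩ := hgψ t a hz
      obtain ⟨y, hy, -⟩ := Scheme.exists_preimage_of_isPullback
        ((IsPullback.of_hasPullback (g' t) (ψ t)).map (Over.forget S)) a w hw.symm
      exact ⟨.inl ⟨t, hts⟩, y, (congrArg (e t).left hy :)⟩
    · have hm : z ∈ Points.ofPt (h ≫ q) ⁻¹' (Points.map j '' Set.univ) := by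
        rw [Set.image_univ]
        simpa [C] using hz
      rw [preimage_image_map sqP] at hm
      obtain ⟨p, -, hp⟩ := hm
      obtain ⟨B₀, hB₀, hpB⟩ := Set.mem_iUnion₂.1 (ht₀ (Set.mem_univ p))
      exact ⟨.inr ⟨B₀, hB₀⟩, ⟨p, hpB⟩, hp⟩
  · show ∃ (k' : ι) (l' : (yon S).obj (B (E.symm m)) ⟶ Yc k'),
      l' ≫ g k' = (yon S).map (c (E.symm m)) ≫ h
    generalize E.symm m = k
    rcases k with t | B₀
    · exact hlift t.1 _ _ _ pullback.condition
    · refine hUlift _ _ ((yon S).map (Over.homMk B₀.1.1.ι rfl : Over.mk (B₀.1.1.ι ≫ P.hom) ⟶ P) ≫ x) ?_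
      rw [Category.assoc, sqP.w]
      simp only [c, Functor.map_comp, Category.assoc]

end Groth.Agent.Lib.AlgSpModif
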